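import Groth.Prelude.Def_GSzMilK
import Mathlib.LinearAlgebra.Multilinear.Basic
import Mathlib.GroupTheory.Perm.Sign

/-!
# Symbol calculus in Milnor K-groups
-/

set_option autoImplicit false
universe u v w

open Function

namespace Groth.Agent.MilK.Basic

open _root_.MilK

variable {F : Type u} [Field F] {M : Type w} [AddCommGroup M]

/-- A function on tuples of units which is additive in every coordinate. -/
def IsMulti {G : Type v} [CommGroup G] {n : ℕ} (f : (Fin n → G) → M) : Prop :=
  ∀ (x : Fin n → G) (i : Fin n) (a b : G),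
    f (update x i (a * b)) = f (update x i a) + f (update x i b)

/-- The underlying multilinear map. -/
noncomputable def toMLM {G : Type v} [CommGroup G] {n : ℕ} (f : (Fin n → G) → M) (hf : IsMulti f) :
    MultilinearMap ℤ (fun _ : Fin n => Additive G) M :=
  MultilinearMap.mk' (fun x => f fun i => (x i).toMul)
    (fun x i a b => by
      simp only [← comp_def Additive.toMul, comp_update]
      exact hf _ i a.toMul b.toMul)
    (fun x i c a => by
      simp only [← comp_def Additive.toMul, comp_update]
      let φ : Additive G →+ M := AddMonoidHom.mk' (fun a => f (update (Additive.toMul ∘ x) i a.toMul))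
        fun a b => hf _ i a.toMul b.toMul
      exact φ.map_zsmul c a)

@[simp]
theorem toMLM_apply {G : Type v} [CommGroup G] {n : ℕ} (f : (Fin n → G) → M) (hf : IsMulti f)
    (x : Fin n → Additive G) : toMLM f hf x = f fun i => (x i).toMul := rfl

/-- Universal property of `K F n` with plain functions. -/
noncomputable def liftFun {n : ℕ} (f : (Fin n → Fˣ) → M) (hf : IsMulti f)
    (hs : ∀ x, IsSteinberg F x → f x = 0) : K F n →+ M :=
  MilK.lift (toMLM f hf) fun x hx => hs x hx

@[simp]
theorem liftFun_symbol {n : ℕ} (f : (Fin n → Fˣ) → M) (hf : IsMulti f)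
    (hs : ∀ x, IsSteinberg F x → f x = 0) (x : Fin n → Fˣ) :
    liftFun f hf hs (symbol x) = f x :=
  MilK.lift_symbol (toMLM f hf) (fun y hy => hs y hy) x

theorem symbol_isMulti (n : ℕ) : IsMulti (symbol : (Fin n → Fˣ) → K F n) := by
  intro x i a b
  have h : ∀ c : Fˣ, (fun j => Additive.ofMul (update x i c j)) =
      update (fun j => Additive.ofMul (x j)) i (Additive.ofMul c) :=
    fun c => comp_update Additive.ofMul x i c
  simp only [symbol, h, ofMul_mul, MultilinearMap.map_update_add, map_add]

/-- The additive map in one coordinate of the symbol. -/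
noncomputable def coordHom {n : ℕ} (x : Fin n → Fˣ) (i : Fin n) : Additive Fˣ →+ K F n :=
  AddMonoidHom.mk' (fun a => symbol (update x i a.toMul)) fun a b =>
    symbol_isMulti n x i a.toMul b.toMul

theorem symbol_update_one {n : ℕ} (x : Fin n → Fˣ) (i : Fin n) :
    (symbol (update x i 1) : K F n) = 0 :=
  (coordHom x i).map_zero

theorem symbol_eq_zero_of_eq_one {n : ℕ} (x : Fin n → Fˣ) {i : Fin n} (h : x i = 1) :
    (symbol x : K F n) = 0 := by
  rw [← update_eq_self i x, h, symbol_update_one]

theorem symbol_update_inv {n : ℕ} (x : Fin n → Fˣ) (i : Fin n) (a : Fˣ) :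
    (symbol (update x i a⁻¹) : K F n) = - symbol (update x i a) :=
  (coordHom x i).map_neg (Additive.ofMul a)

theorem symbol_update_div {n : ℕ} (x : Fin n → Fˣ) (i : Fin n) (a b : Fˣ) :
    (symbol (update x i (a / b)) : K F n) = symbol (update x i a) - symbol (update x i b) :=
  (coordHom x i).map_sub (Additive.ofMul a) (Additive.ofMul b)

/-- Induction on elements of `K F n`. -/
theorem induction_on {n : ℕ} {p : K F n → Prop} (z : K F n) (zero : p 0)
    (sym : ∀ x, p (symbol x)) (add : ∀ a b, p a → p b → p (a + b)) (neg : ∀ a, p a → p (-a)) :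
    p z := by
  obtain ⟨t, rfl⟩ := mk_surjective F n z
  induction t using PiTensorProduct.induction_on with
  | smul_tprod r x =>
      rw [map_zsmul, mk_tprod]
      induction r using Int.induction_on with
      | zero => simpa using zero
      | succ i hi => rw [add_smul, one_smul]; exact add _ _ hi (sym _)
      | pred i hi => rw [sub_smul, one_smul, sub_eq_add_neg]; exact add _ _ hi (neg _ (sym _))
  | add a b ha hb => rw [map_add]; exact add _ _ ha hb

theorem closure_range_symbol (n : ℕ) :
    AddSubgroup.closure (Set.range (symbol : (Fin n → Fˣ) → K F n)) = ⊤ := by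
  rw [eq_top_iff]
  rintro z -
  induction z using induction_on with
  | zero => exact zero_mem _
  | sym x => exact AddSubgroup.subset_closure ⟨x, rfl⟩
  | add a b ha hb => exact add_mem ha hb
  | neg a ha => exact neg_mem ha

theorem hom_ext {n : ℕ} {f g : K F n →+ M} (h : ∀ x, f (symbol x) = g (symbol x)) : f = g :=
  AddMonoidHom.eq_of_eqOn_dense (closure_range_symbol n) (by rintro _ ⟨x, rfl⟩; exact h x)

theorem symbol_eq_zero_of_add_eq_one {n : ℕ} (x : Fin n → Fˣ) {i j : Fin n} (hij : i ≠ j)
    (h : (x i : F) + (x j : F) = 1) : (symbol x : K F n) = 0 := by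
  apply symbol_eq_zero_of_isSteinberg
  rcases lt_or_gt_of_ne hij with hlt | hlt
  · exact ⟨i, j, hlt, h⟩
  · exact ⟨j, i, hlt, by rw [add_comm, h]⟩

theorem symbol_eq_zero_of_eq_neg {n : ℕ} (x : Fin n → Fˣ) {i j : Fin n} (hij : i ≠ j)
    (h : x j = -x i) : (symbol x : K F n) = 0 := by
  set a := x i with ha
  by_cases h1 : a = 1
  · exact symbol_eq_zero_of_eq_one x (ha ▸ h1)
  have h1' : (a : F) ≠ 1 := by simpa using h1
  have hne : (1 : F) - a ≠ 0 := sub_ne_zero.2 (Ne.symm h1')
  have hne' : (1 : F) - ((a⁻¹ : Fˣ) : F) ≠ 0 := by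
    refine sub_ne_zero.2 (Ne.symm ?_)
    simpa [Units.val_eq_one] using h1
  have hkey : x j = Units.mk0 _ hne / Units.mk0 _ hne' := by
    rw [h, eq_div_iff_mul_eq']
    ext
    simp only [Units.val_mul, Units.val_neg, Units.val_mk0]
    field_simp
    simp [mul_sub]
  rw [← update_eq_self j x, hkey, symbol_update_div]
  have e1 : (symbol (update x j (Units.mk0 _ hne)) : K F n) = 0 := by
    refine symbol_eq_zero_of_add_eq_one _ hij ?_
    rw [update_of_ne hij, update_self, Units.val_mk0, ← ha]; ring
  have e2 : (symbol (update (update x j (Units.mk0 _ hne')) i a⁻¹) : K F n) = 0 := by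
    refine symbol_eq_zero_of_add_eq_one _ hij ?_
    rw [update_self, update_of_ne (Ne.symm hij), update_self, Units.val_mk0]; ring
  rw [symbol_update_inv] at e2
  have hb : ∀ c : Fˣ, update (update x j c) i a = update x j c := fun c => by
    rw [update_eq_self_iff, update_of_ne hij, ha]
  rw [hb, neg_eq_zero] at e2
  rw [e1, e2, sub_zero]

theorem symbol_swap {n : ℕ} (x : Fin n → Fˣ) {i j : Fin n} (hij : i ≠ j) :
    (symbol (x ∘ Equiv.swap i j) : K F n) = - symbol x := by
  set B : Fˣ → Fˣ → K F n := fun a b => symbol (update (update x i a) j b) with hB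
  have hzero : ∀ a, B a (-a) = 0 := fun a => by
    refine symbol_eq_zero_of_eq_neg _ hij ?_
    simp [hij]
  have hl : ∀ a a' b, B (a * a') b = B a b + B a' b := fun a a' b => by
    simp only [hB, update_comm hij]
    exact symbol_isMulti n _ i a a'
  have hr : ∀ a b b', B a (b * b') = B a b + B a b' := fun a b b' => symbol_isMulti n _ j b b'
  have key : ∀ a b, B a b + B b a = 0 := fun a b => by
    have h0 := hzero (a * b)
    rw [hl, show -(a * b) = -a * b by rw [neg_mul], hr, hzero a, zero_add,
      show -a * b = a * -b by rw [neg_mul, mul_neg], hr, hzero b, add_zero] at h0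
    exact h0
  have e1 : x ∘ Equiv.swap i j = update (update x i (x j)) j (x i) := by
    funext l
    rcases eq_or_ne l j with rfl | hlj
    · simp
    rcases eq_or_ne l i with rfl | hli
    · simp [hlj]
    simp [hlj, hli, Equiv.swap_apply_of_ne_of_ne]
  have e2 : x = update (update x i (x i)) j (x j) := by simp
  rw [e1, eq_neg_iff_add_eq_zero]
  nth_rw 4 [e2]
  exact key (x j) (x i)

theorem symbol_perm {n : ℕ} (x : Fin n → Fˣ) (σ : Equiv.Perm (Fin n)) :
    (symbol (x ∘ σ) : K F n) = (Equiv.Perm.sign σ : ℤ) • symbol x := by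
  induction σ using Equiv.Perm.swap_induction_on generalizing x with
  | one => simp
  | swap_mul f a b hab ih =>
      rw [show (x ∘ ⇑(Equiv.swap a b * f)) = (x ∘ Equiv.swap a b) ∘ f from rfl, ih,
        symbol_swap x hab, map_mul, Equiv.Perm.sign_swap hab]
      simp

section Cons

theorem cons_isMulti (a : Fˣ) (n : ℕ) :
    IsMulti (fun x : Fin n → Fˣ => (symbol (Fin.cons a x) : K F (n + 1))) := by
  intro x i b c
  simp only [Fin.cons_update]
  exact symbol_isMulti _ _ _ _ _

/-- Left multiplication by a symbol of degree one. -/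
noncomputable def cons (a : Fˣ) {n : ℕ} : K F n →+ K F (n + 1) :=
  liftFun (fun x => symbol (Fin.cons a x)) (cons_isMulti a n) fun x hx => by
    obtain ⟨i, j, hij, h⟩ := hx
    exact symbol_eq_zero_of_isSteinberg _ ⟨i.succ, j.succ, by simpa using hij, by simpa using h⟩

@[simp]
theorem cons_symbol (a : Fˣ) {n : ℕ} (x : Fin n → Fˣ) :
    cons a (symbol x : K F n) = symbol (Fin.cons a x) :=
  liftFun_symbol _ _ _ _

theorem symbol_succ {n : ℕ} (x : Fin (n + 1) → Fˣ) :
    (symbol x : K F (n + 1)) = cons (x 0) (symbol (Fin.tail x)) := by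
  rw [cons_symbol, Fin.cons_self_tail]

theorem cons_mul (a b : Fˣ) {n : ℕ} (z : K F n) :
    cons (a * b) z = cons a z + cons b z := by
  suffices h : cons (a * b) = cons a + cons b from DFunLike.congr_fun h z
  refine hom_ext fun x => ?_
  have := symbol_isMulti (n + 1) (Fin.cons a x) 0 a b
  simpa [Fin.update_cons_zero] using this

/-- `cons` as a homomorphism in the unit. -/
noncomputable def consHom {n : ℕ} (z : K F n) : Additive Fˣ →+ K F (n + 1) :=
  AddMonoidHom.mk' (fun a => cons a.toMul z) fun a b => cons_mul a.toMul b.toMul z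

@[simp]
theorem cons_one {n : ℕ} (z : K F n) : cons (1 : Fˣ) z = 0 := (consHom z).map_zero

theorem cons_inv (a : Fˣ) {n : ℕ} (z : K F n) : cons a⁻¹ z = - cons a z :=
  (consHom z).map_neg (Additive.ofMul a)

theorem cons_div (a b : Fˣ) {n : ℕ} (z : K F n) : cons (a / b) z = cons a z - cons b z :=
  (consHom z).map_sub (Additive.ofMul a) (Additive.ofMul b)

theorem cons_zpow (a : Fˣ) (k : ℤ) {n : ℕ} (z : K F n) : cons (a ^ k) z = k • cons a z :=
  (consHom z).map_zsmul k (Additive.ofMul a)

theorem cons_pow (a : Fˣ) (k : ℕ) {n : ℕ} (z : K F n) : cons (a ^ k) z = k • cons a z :=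
  (consHom z).map_nsmul k (Additive.ofMul a)

theorem cons_cons_eq_zero {a b : Fˣ} (h : (a : F) + b = 1) {n : ℕ} (z : K F n) :
    cons a (cons b z) = 0 := by
  suffices h' : (cons a).comp (cons b (n := n)) = 0 from DFunLike.congr_fun h' z
  refine hom_ext fun x => ?_
  simp only [AddMonoidHom.comp_apply, cons_symbol, AddMonoidHom.zero_apply]
  exact symbol_eq_zero_of_add_eq_one _ (i := 0) (j := (0 : Fin (n + 1)).succ)
    (by simp) (by simpa using h)

theorem cons_cons_neg (a : Fˣ) {n : ℕ} (z : K F n) : cons a (cons (-a) z) = 0 := by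
  suffices h' : (cons a).comp (cons (-a) (n := n)) = 0 from DFunLike.congr_fun h' z
  refine hom_ext fun x => ?_
  simp only [AddMonoidHom.comp_apply, cons_symbol, AddMonoidHom.zero_apply]
  exact symbol_eq_zero_of_eq_neg _ (i := 0) (j := (0 : Fin (n + 1)).succ)
    (by simp) (by simp)

theorem cons_cons_comm (a b : Fˣ) {n : ℕ} (z : K F n) :
    cons a (cons b z) = - cons b (cons a z) := by
  have h0 := cons_cons_neg (a * b) z
  rw [cons_mul a b, show -(a * b) = -a * b by rw [neg_mul], cons_mul (-a) b, map_add,
    cons_cons_neg, zero_add, ← cons_mul (-a) b, show -a * b = a * -b by rw [neg_mul, mul_neg],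
    cons_mul a (-b), map_add, cons_cons_neg, add_zero] at h0
  exact eq_neg_iff_add_eq_zero.2 h0

theorem cons_cons_self (a : Fˣ) {n : ℕ} (z : K F n) :
    cons a (cons a z) = cons a (cons (-1) z) := by
  have h := cons_cons_neg a z
  rw [show -a = -1 * a by simp, cons_mul, map_add] at h
  have h2 : cons a (cons (-1) z) + cons a (cons (-1) z) = 0 := by
    rw [← map_add, ← cons_mul]; simp
  rw [eq_neg_of_add_eq_zero_right h, neg_eq_iff_add_eq_zero, h2]

theorem cons_neg_one_two_smul {n : ℕ} (z : K F n) :
    cons (-1 : Fˣ) z + cons (-1) z = 0 := by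
  rw [← cons_mul]; simp

theorem cast_mul_symbol_one (a : Fˣ) {n : ℕ} (z : K F n) :
    MilK.cast F (Nat.add_comm 1 n) (mul F 1 n (symbol ![a]) z) = cons a z := by
  suffices h : (MilK.cast F (Nat.add_comm 1 n)).toAddMonoidHom.comp (mul F 1 n (symbol ![a])) =
      cons a from DFunLike.congr_fun h z
  refine hom_ext fun x => ?_
  simp only [AddMonoidHom.comp_apply, AddEquiv.coe_toAddMonoidHom, mul_symbol_symbol, cast_symbol,
    cons_symbol]
  congr 1
  funext i
  refine Fin.cases ?_ (fun j => ?_) i
  · rw [Fin.cons_zero, comp_apply]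
    exact Fin.append_left ![a] x 0
  · rw [Fin.cons_succ, comp_apply,
      show Fin.cast (Nat.add_comm 1 n).symm j.succ = Fin.natAdd 1 j from
        Fin.ext (by simp [Nat.add_comm]), Fin.append_right]

theorem map_cons {E : Type v} [Field E] (φ : F →+* E) (a : Fˣ) {n : ℕ} (z : K F n) :
    MilK.map φ (n + 1) (cons a z) = cons (Units.map (φ : F →* E) a) (MilK.map φ n z) := by
  suffices h : (MilK.map φ (n + 1)).comp (cons a) =
      (cons (Units.map (φ : F →* E) a)).comp (MilK.map φ n) from DFunLike.congr_fun h z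
  refine hom_ext fun x => ?_
  simp only [AddMonoidHom.comp_apply, cons_symbol, map_symbol]
  congr 1
  funext i
  refine Fin.cases ?_ (fun j => ?_) i <;> simp

theorem symbol_zero_eq (x y : Fin 0 → Fˣ) : (symbol x : K F 0) = symbol y :=
  congrArg symbol (Subsingleton.elim x y)

theorem zsmul_symbol_zero (z : K F 0) (x : Fin 0 → Fˣ) : z = MilK.K0 F z • symbol x :=
  (MilK.K0 F).injective (by simp)

end Cons

section Map

variable {E : Type v} [Field E] {L : Type w} [Field L]

theorem map_map (φ : F →+* E) (ψ : E →+* L) {n : ℕ} (z : K F n) :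
    MilK.map ψ n (MilK.map φ n z) = MilK.map (ψ.comp φ) n z := by
  suffices h : (MilK.map ψ n).comp (MilK.map φ n) = MilK.map (ψ.comp φ) n from DFunLike.congr_fun h z
  refine hom_ext fun x => ?_
  simp [map_symbol]
  rfl

theorem map_id_apply {n : ℕ} (z : K F n) : MilK.map (RingHom.id F) n z = z := by
  suffices h : MilK.map (RingHom.id F) n = AddMonoidHom.id _ from DFunLike.congr_fun h z
  refine hom_ext fun x => ?_
  simp [map_symbol]

theorem map_injective_of_surjective (φ : F →+* E) (hφ : Surjective φ) (n : ℕ) :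
    Injective (MilK.map φ n) := by
  let e := RingEquiv.ofBijective φ ⟨φ.injective, hφ⟩
  intro a b hab
  have h := congrArg (MilK.map e.symm.toRingHom n) hab
  rw [map_map, map_map, show (e.symm.toRingHom).comp φ = RingHom.id F from
    RingHom.ext fun a => e.symm_apply_apply a, map_id_apply, map_id_apply] at h
  exact h

theorem map_surjective_of_surjective (φ : F →+* E) (hφ : Surjective φ) (n : ℕ) :
    Surjective (MilK.map φ n) := by
  let e := RingEquiv.ofBijective φ ⟨φ.injective, hφ⟩
  intro a
  refine ⟨MilK.map e.symm.toRingHom n a, ?_⟩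
  rw [map_map, show φ.comp e.symm.toRingHom = RingHom.id E from
    RingHom.ext fun a => e.apply_symm_apply a, map_id_apply]

end Map

end Groth.Agent.MilK.Basic
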