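import Groth.Agent.MilK.Basic
import Mathlib.LinearAlgebra.Multilinear.Curry
import Mathlib.RingTheory.DiscreteValuationRing.Basic
import Mathlib.RingTheory.LocalRing.ResidueField.Basic

/-!
# The tame symbol and the specialisation map

Both are constructed from valuation data (a valuation and a residue of the unit part, as homomorphisms
on the unit group), which covers discrete valuation rings with a chosen uniformizer and the place at
infinity of a rational function field.
-/

set_option autoImplicit false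
set_option linter.unusedSectionVars false
universe u v w

open Function

namespace Groth.Agent.MilK.Tame

open _root_.MilK Groth.Agent.MilK.Basic

/-- Valuation data on a field `L` with residue field `κ`. -/
structure ValData (L : Type v) (κ : Type w) [Field L] [Field κ] where
  /-- the valuation -/
  vHom : Lˣ →* Multiplicative ℤ
  /-- residue of the unit part -/
  r : Lˣ →* κˣ
  steinberg : ∀ a b : Lˣ, (a : L) + b = 1 →
    ((vHom b).toAdd = 0 ∧ r b = 1 ∧ 0 < (vHom a).toAdd) ∨
    ((vHom a).toAdd = 0 ∧ r a = 1 ∧ 0 < (vHom b).toAdd) ∨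
    ((vHom a).toAdd = 0 ∧ (vHom b).toAdd = 0 ∧ (r a : κ) + r b = 1) ∨
    ((vHom a).toAdd = (vHom b).toAdd ∧ (vHom a).toAdd < 0 ∧ r b = - r a)

namespace ValData

variable {L : Type v} {κ : Type w} [Field L] [Field κ] (D : ValData L κ)

/-- the valuation, with values in the integers -/
def v (a : Lˣ) : ℤ := (D.vHom a).toAdd

theorem v_mul (a b : Lˣ) : D.v (a * b) = D.v a + D.v b := by simp [v]

@[simp] theorem v_one : D.v 1 = 0 := by simp [v]

theorem v_zpow (a : Lˣ) (k : ℤ) : D.v (a ^ k) = k * D.v a := by simp [v]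

theorem v_inv (a : Lˣ) : D.v a⁻¹ = - D.v a := by simp [v]

theorem steinberg' (a b : Lˣ) (h : (a : L) + b = 1) :
    (D.v b = 0 ∧ D.r b = 1 ∧ 0 < D.v a) ∨ (D.v a = 0 ∧ D.r a = 1 ∧ 0 < D.v b) ∨
    (D.v a = 0 ∧ D.v b = 0 ∧ (D.r a : κ) + D.r b = 1) ∨
    (D.v a = D.v b ∧ D.v a < 0 ∧ D.r b = - D.r a) := D.steinberg a b h

/-- the correction factor `(-1)^v / r` -/
def sgn (a : Lˣ) : κˣ := (-1) ^ D.v a / D.r a

theorem sgn_mul (a b : Lˣ) : D.sgn (a * b) = D.sgn a * D.sgn b := by
  simp only [sgn, v_mul, map_mul, zpow_add]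
  exact (div_mul_div_comm _ _ _ _).symm

theorem r_steinberg (a b : Lˣ) (h : (a : L) + b = 1) {n : ℕ} (z : K κ n) :
    cons (D.r a) (cons (D.r b) z) = 0 := by
  rcases D.steinberg' a b h with h1 | h1 | h1 | h1
  · simp [h1.2.1]
  · simp [h1.2.1]
  · exact cons_cons_eq_zero h1.2.2 z
  · rw [h1.2.2]; exact cons_cons_neg _ z

theorem specTuple_steinberg {n : ℕ} (x : Fin n → Lˣ) (hx : IsSteinberg L x) :
    (symbol (fun i => D.r (x i)) : K κ n) = 0 := by
  obtain ⟨i, j, hij, h⟩ := hx
  rcases D.steinberg' _ _ h with h1 | h1 | h1 | h1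
  · exact symbol_eq_zero_of_eq_one _ (i := j) h1.2.1
  · exact symbol_eq_zero_of_eq_one _ (i := i) h1.2.1
  · exact symbol_eq_zero_of_add_eq_one _ hij.ne h1.2.2
  · exact symbol_eq_zero_of_eq_neg _ hij.ne h1.2.2

/-- The specialisation map on tuples, multilinear. -/
noncomputable def specMLM (n : ℕ) : MultilinearMap ℤ (fun _ : Fin n => Additive Lˣ) (K κ n) :=
  toMLM (fun x => symbol fun i => D.r (x i)) fun x i a b => by
    simp only [← comp_def D.r, comp_update, map_mul]
    exact symbol_isMulti n _ i _ _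

@[simp]
theorem specMLM_apply {n : ℕ} (x : Fin n → Additive Lˣ) :
    D.specMLM n x = symbol fun i => D.r (x i).toMul := rfl

/-- One step of the recursion defining the tame symbol. -/
noncomputable def step {n : ℕ}
    (d : MultilinearMap ℤ (fun _ : Fin (n + 1) => Additive Lˣ) (K κ n)) :
    Additive Lˣ →ₗ[ℤ] MultilinearMap ℤ (fun _ : Fin (n + 1) => Additive Lˣ) (K κ (n + 1)) :=
  (AddMonoidHom.mk' (fun a => D.v a.toMul • D.specMLM (n + 1) +
      (Basic.cons (D.sgn a.toMul)).toIntLinearMap.compMultilinearMap d) fun a b => by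
    ext x
    simp only [toMul_add, v_mul, sgn_mul, add_apply, smul_apply,
      LinearMap.compMultilinearMap_apply, AddMonoidHom.coe_toIntLinearMap, cons_mul, add_smul]
    abel).toIntLinearMap

/-- The tame symbol on tuples, multilinear. -/
noncomputable def tameMLM :
    ∀ n : ℕ, MultilinearMap ℤ (fun _ : Fin (n + 1) => Additive Lˣ) (K κ n)
  | 0 => toMLM (fun x => D.v (x 0) • (symbol Fin.elim0 : K κ 0)) fun x i a b => by
      obtain rfl : i = 0 := Fin.ext (by omega)
      simp [v_mul, add_smul]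
  | n + 1 => LinearMap.uncurryLeft (M := fun _ : Fin (n + 2) => Additive Lˣ) (D.step (tameMLM n))

/-- The tame symbol of a tuple. -/
noncomputable def tameFun (n : ℕ) (x : Fin (n + 1) → Lˣ) : K κ n :=
  D.tameMLM n fun i => Additive.ofMul (x i)

theorem tameFun_zero (x : Fin 1 → Lˣ) : D.tameFun 0 x = D.v (x 0) • symbol Fin.elim0 := rfl

theorem tameFun_succ (n : ℕ) (x : Fin (n + 2) → Lˣ) :
    D.tameFun (n + 1) x = D.v (x 0) • symbol (fun i : Fin (n + 1) => D.r (x i.succ)) +
      cons (D.sgn (x 0)) (D.tameFun n (Fin.tail x)) := rfl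

theorem tameFun_succ_succ (n : ℕ) (x : Fin (n + 3) → Lˣ) :
    D.tameFun (n + 2) x =
      D.v (x 0) • cons (D.r (x 1)) (symbol fun i : Fin (n + 1) => D.r (x i.succ.succ)) +
      D.v (x 1) • cons (D.sgn (x 0)) (symbol fun i : Fin (n + 1) => D.r (x i.succ.succ)) +
      cons (D.sgn (x 0)) (cons (D.sgn (x 1)) (D.tameFun n (Fin.tail (Fin.tail x)))) := by
  rw [tameFun_succ, tameFun_succ, symbol_succ (fun i : Fin (n + 2) => D.r (x i.succ))]
  simp only [map_add, map_zsmul, add_assoc]
  rfl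

theorem tameFun_one_eq (x : Fin 2 → Lˣ) :
    D.tameFun 1 x = D.v (x 0) • cons (D.r (x 1)) (symbol Fin.elim0 : K κ 0) +
      D.v (x 1) • cons (D.sgn (x 0)) (symbol Fin.elim0 : K κ 0) := by
  rw [tameFun_succ, tameFun_zero, map_zsmul, symbol_succ (fun i : Fin 1 => D.r (x i.succ))]
  congr 3
  exact congrArg symbol (Subsingleton.elim _ _)

theorem head_identity (a b : Lˣ) (h : (a : L) + b = 1) {n : ℕ} (z : K κ n) :
    D.v a • cons (D.r b) z + D.v b • cons (D.sgn a) z = 0 := by
  rcases D.steinberg' a b h with h1 | h1 | h1 | h1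
  · simp [h1.1, h1.2.1]
  · simp [h1.1, h1.2.1, sgn]
  · simp [h1.1, h1.2.1]
  · rw [h1.2.2, ← h1.1, ← smul_add, ← cons_mul,
      show -D.r a * D.sgn a = (-1) ^ (D.v a + 1) by
        rw [sgn, neg_mul, mul_div_cancel, zpow_add, zpow_one, mul_neg_one],
      cons_zpow, smul_smul]
    obtain ⟨k, hk⟩ := Int.even_mul_succ_self (D.v a)
    rw [hk, add_smul, ← smul_add, cons_neg_one_two_smul, smul_zero]

theorem sgn_steinberg (a b : Lˣ) (h : (a : L) + b = 1) {n : ℕ} (z : K κ n) :
    cons (D.sgn a) (cons (D.sgn b) z) = 0 := by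
  rcases D.steinberg' a b h with h1 | h1 | h1 | h1
  · simp [sgn, h1.1, h1.2.1]
  · simp [sgn, h1.1, h1.2.1]
  · simp only [sgn, h1.1, h1.2.1, zpow_zero, one_div, cons_inv, map_neg, neg_neg]
    exact cons_cons_eq_zero h1.2.2 z
  · rw [show D.sgn b = - D.sgn a by simp [sgn, h1.2.2, ← h1.1, div_neg]]
    exact cons_cons_neg _ z

theorem sgn_cons_cons_comm (a b : Lˣ) {n : ℕ} (S : K κ n) :
    (D.v a • cons (D.r b) S + D.v b • cons (D.sgn a) S) +
      (D.v b • cons (D.r a) S + D.v a • cons (D.sgn b) S) = 0 := by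
  have e : ∀ c, cons (D.r c) S + cons (D.sgn c) S = D.v c • cons (-1) S := fun c => by
    rw [← cons_mul, sgn, mul_div_cancel, cons_zpow]
  calc _ = D.v a • (cons (D.r b) S + cons (D.sgn b) S) +
        D.v b • (cons (D.r a) S + cons (D.sgn a) S) := by rw [smul_add, smul_add]; abel
    _ = 0 := by
      rw [e, e, smul_smul, smul_smul, mul_comm (D.v b), ← smul_add, cons_neg_one_two_smul, smul_zero]

theorem tameFun_swap01 (n : ℕ) (x : Fin (n + 2) → Lˣ) :
    D.tameFun (n + 1) (Fin.cons (x 1) (Fin.cons (x 0) fun i => x i.succ.succ)) +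
      D.tameFun (n + 1) x = 0 := by
  cases n with
  | zero =>
      rw [tameFun_one_eq, tameFun_one_eq]
      exact D.sgn_cons_cons_comm (x 1) (x 0) _
  | succ n =>
      rw [tameFun_succ_succ, tameFun_succ_succ]
      simp only [Fin.cons_zero, Fin.cons_one, Fin.cons_succ, Fin.tail_cons]
      rw [cons_cons_comm (D.sgn (x 1)) (D.sgn (x 0))]
      have h := D.sgn_cons_cons_comm (x 0) (x 1) (symbol fun i : Fin (n + 1) => D.r (x i.succ.succ))
      have ht : (fun i : Fin (n + 1) => x i.succ.succ) = Fin.tail (Fin.tail x) := rfl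
      rw [ht]
      rw [← h]
      abel

theorem tameFun_steinberg : ∀ (n : ℕ) (x : Fin (n + 1) → Lˣ), IsSteinberg L x → D.tameFun n x = 0
  | 0, x, ⟨i, j, hij, _⟩ => absurd hij (by rw [Fin.lt_def]; omega)
  | n + 1, x, ⟨i, j, hij, h⟩ => by
    rcases Fin.eq_zero_or_eq_succ i with rfl | ⟨i', rfl⟩
    · obtain ⟨j', rfl⟩ := Fin.exists_succ_eq.2 hij.ne'
      rcases Fin.eq_zero_or_eq_succ j' with rfl | ⟨j'', rfl⟩
      · cases n with
        | zero =>
            rw [tameFun_one_eq]
            exact D.head_identity _ _ h _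
        | succ n =>
            rw [tameFun_succ_succ, show (x 1 : Lˣ) = x (Fin.succ 0) from rfl, D.head_identity _ _ h,
              D.sgn_steinberg _ _ h, add_zero]
      · have hs := D.tameFun_swap01 n x
        set x' : Fin (n + 2) → Lˣ := Fin.cons (x 1) (Fin.cons (x 0) fun k => x k.succ.succ) with hx'
        have hst : IsSteinberg L (Fin.tail x') :=
          ⟨0, j''.succ, Fin.succ_pos _, by simpa [hx', Fin.tail] using h⟩
        have h0 : D.tameFun (n + 1) x' = 0 := by
          rw [tameFun_succ, tameFun_steinberg n _ hst,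
            show (symbol fun k : Fin (n + 1) => D.r (x' k.succ) : K κ (n + 1)) = 0 from
              D.specTuple_steinberg (Fin.tail x') hst,
            smul_zero, map_zero, add_zero]
        rwa [h0, zero_add] at hs
    · obtain ⟨j', rfl⟩ := Fin.exists_succ_eq.2 (ne_of_gt (lt_of_le_of_lt (Fin.zero_le _) hij))
      have hst : IsSteinberg L (Fin.tail x) := ⟨i', j', by simpa using hij, h⟩
      rw [tameFun_succ, tameFun_steinberg n _ hst,
        show (symbol fun k : Fin (n + 1) => D.r (x k.succ) : K κ (n + 1)) = 0 from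
          D.specTuple_steinberg (Fin.tail x) hst,
        smul_zero, map_zero, add_zero]

/-- The tame symbol. -/
noncomputable def tame (n : ℕ) : K L (n + 1) →+ K κ n :=
  MilK.lift (D.tameMLM n) (D.tameFun_steinberg n)

/-- The specialisation map. -/
noncomputable def spec (n : ℕ) : K L n →+ K κ n :=
  MilK.lift (D.specMLM n) (D.specTuple_steinberg (n := n))

@[simp] theorem tame_symbol {n : ℕ} (x : Fin (n + 1) → Lˣ) :
    D.tame n (symbol x) = D.tameFun n x := lift_symbol _ _ x

@[simp] theorem spec_symbol {n : ℕ} (x : Fin n → Lˣ) :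
    D.spec n (symbol x) = symbol fun i => D.r (x i) := lift_symbol _ _ x

theorem spec_cons (a : Lˣ) {n : ℕ} (z : K L n) :
    D.spec (n + 1) (cons a z) = cons (D.r a) (D.spec n z) := by
  suffices h : (D.spec (n + 1)).comp (cons a) = (cons (D.r a)).comp (D.spec n) from
    DFunLike.congr_fun h z
  refine hom_ext fun x => ?_
  simp only [AddMonoidHom.comp_apply, cons_symbol, spec_symbol]
  congr 1
  funext i
  refine Fin.cases ?_ (fun k => ?_) i <;> simp

theorem tame_cons (a : Lˣ) {n : ℕ} (z : K L (n + 1)) :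
    D.tame (n + 1) (cons a z) = D.v a • D.spec (n + 1) z + cons (D.sgn a) (D.tame n z) := by
  suffices h : (D.tame (n + 1)).comp (cons a) =
      D.v a • D.spec (n + 1) + (cons (D.sgn a)).comp (D.tame n) from DFunLike.congr_fun h z
  refine hom_ext fun x => ?_
  simp [tameFun_succ]

theorem tame_cons_zero (a : Lˣ) (z : K L 0) :
    D.tame 0 (cons a z) = D.v a • D.spec 0 z := by
  suffices h : (D.tame 0).comp (cons a) = D.v a • D.spec 0 from DFunLike.congr_fun h z
  refine hom_ext fun x => ?_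
  simp [tameFun_zero]
  exact congrArg (fun w => D.v a • symbol w) (Subsingleton.elim _ _)

theorem tameFun_of_units : ∀ (n : ℕ) (x : Fin (n + 1) → Lˣ), (∀ i, D.v (x i) = 0) →
    D.tameFun n x = 0
  | 0, x, h => by simp [tameFun_zero, h 0]
  | n + 1, x, h => by
    rw [tameFun_succ, h 0, zero_smul, zero_add,
      tameFun_of_units n (Fin.tail x) (fun i => h i.succ), map_zero]

theorem tameFun_cons (a : Lˣ) : ∀ {n : ℕ} (x : Fin n → Lˣ), (∀ i, D.v (x i) = 0) →
    D.tameFun n (Fin.cons a x) = D.v a • symbol fun i => D.r (x i)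
  | 0, x, _ => congrArg (fun w => D.v a • (symbol w : K κ 0)) (Subsingleton.elim _ _)
  | n + 1, x, h => by
    rw [tameFun_succ, Fin.tail_cons, D.tameFun_of_units n x h, map_zero, add_zero]
    simp

end ValData

section DVR

variable {A : Type u} [CommRing A] [IsDomain A] [IsDiscreteValuationRing A]
  {L : Type v} [Field L] [Algebra A L] [IsFractionRing A L]

theorem exists_eq_zpow_mul (ϖ : A) (hϖ : Irreducible ϖ) (a : Lˣ) :
    ∃ p : ℤ × Aˣ, a = unitFrac A L ϖ hϖ.ne_zero ^ p.1 * unitToFrac A L p.2 := by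
  obtain ⟨p, q, hq, hpq⟩ := IsFractionRing.div_surjective A (a : L)
  have hq0 : q ≠ 0 := nonZeroDivisors.ne_zero hq
  have hp0 : p ≠ 0 := by
    rintro rfl
    exact a.ne_zero (by simpa using hpq.symm)
  obtain ⟨i, u, rfl⟩ := IsDiscreteValuationRing.eq_unit_mul_pow_irreducible hp0 hϖ
  obtain ⟨j, u', rfl⟩ := IsDiscreteValuationRing.eq_unit_mul_pow_irreducible hq0 hϖ
  refine ⟨((i : ℤ) - j, u / u'), Units.ext ?_⟩
  rw [Units.val_mul, Units.val_zpow_eq_zpow_val, coe_unitFrac, ← hpq, map_div, Units.val_div_eq_div_val,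
    zpow_sub₀ (by simpa using hϖ.ne_zero)]
  simp only [unitToFrac, Units.coe_map, MonoidHom.coe_coe, zpow_natCast, map_mul, map_pow]
  field_simp

theorem zpow_mul_injective (ϖ : A) (hϖ : Irreducible ϖ) {i j : ℤ} {u u' : Aˣ}
    (h : unitFrac A L ϖ hϖ.ne_zero ^ i * unitToFrac A L u =
      unitFrac A L ϖ hϖ.ne_zero ^ j * unitToFrac A L u') : i = j ∧ u = u' := by
  wlog hle : j ≤ i generalizing i j u u'
  · obtain ⟨h1, h2⟩ := this h.symm (le_of_not_ge hle)
    exact ⟨h1.symm, h2.symm⟩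
  obtain ⟨k, rfl⟩ := Int.le.dest hle
  rw [zpow_add, mul_assoc, mul_right_inj, zpow_natCast] at h
  have h' : ϖ ^ k * (u : A) = (u' : A) := by
    apply IsFractionRing.injective A L
    simpa [unitToFrac] using congrArg Units.val h
  have hk : k = 0 := by
    by_contra hk
    apply hϖ.not_isUnit
    exact isUnit_of_dvd_unit ((dvd_pow_self ϖ hk).mul_right _) (h' ▸ u'.isUnit)
  subst hk
  simp only [pow_zero, one_mul] at h'
  exact ⟨by simp, Units.ext h'⟩

/-- The exponent and unit part of a nonzero element. -/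
noncomputable def decomp (ϖ : A) (hϖ : Irreducible ϖ) (a : Lˣ) : ℤ × Aˣ :=
  (exists_eq_zpow_mul ϖ hϖ a).choose

theorem decomp_spec (ϖ : A) (hϖ : Irreducible ϖ) (a : Lˣ) :
    a = unitFrac A L ϖ hϖ.ne_zero ^ (decomp ϖ hϖ a).1 * unitToFrac A L (decomp ϖ hϖ a).2 :=
  (exists_eq_zpow_mul ϖ hϖ a).choose_spec

theorem decomp_eq (ϖ : A) (hϖ : Irreducible ϖ) (i : ℤ) (u : Aˣ) :
    decomp (L := L) ϖ hϖ (unitFrac A L ϖ hϖ.ne_zero ^ i * unitToFrac A L u) = (i, u) := by
  obtain ⟨h1, h2⟩ := zpow_mul_injective ϖ hϖ (decomp_spec (L := L) ϖ hϖ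
    (unitFrac A L ϖ hϖ.ne_zero ^ i * unitToFrac A L u)).symm
  exact Prod.ext h1 h2

theorem decomp_mul (ϖ : A) (hϖ : Irreducible ϖ) (a b : Lˣ) :
    decomp ϖ hϖ (a * b) =
      ((decomp ϖ hϖ a).1 + (decomp ϖ hϖ b).1, (decomp ϖ hϖ a).2 * (decomp ϖ hϖ b).2) := by
  conv_lhs => rw [decomp_spec ϖ hϖ a, decomp_spec ϖ hϖ b, mul_mul_mul_comm, ← zpow_add, ← map_mul]
  exact decomp_eq ϖ hϖ _ _

/-- Valuation data of a discrete valuation ring with a chosen uniformizer. -/
noncomputable def dvrData (ϖ : A) (hϖ : Irreducible ϖ) :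
    ValData L (IsLocalRing.ResidueField A) where
  vHom := MonoidHom.mk' (fun a => Multiplicative.ofAdd (decomp ϖ hϖ a).1) fun a b => by
    rw [decomp_mul]; rfl
  r := MonoidHom.mk' (fun a => unitResidue A (decomp ϖ hϖ a).2) fun a b => by
    rw [decomp_mul]; exact map_mul (unitResidue A) _ _
  steinberg := by
    intro a b h
    simp only [MonoidHom.mk'_apply, toAdd_ofAdd]
    have hres : IsLocalRing.residue A ϖ = 0 := (IsLocalRing.residue_eq_zero_iff ϖ).2 hϖ.not_isUnit
    have hnat : ∀ k : ℕ, algebraMap A L (ϖ ^ k) = (unitFrac A L ϖ hϖ.ne_zero : L) ^ k := by simp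
    have hne : algebraMap A L ϖ ≠ 0 := by simpa using hϖ.ne_zero
    have ha := congrArg Units.val (decomp_spec ϖ hϖ a)
    have hb := congrArg Units.val (decomp_spec ϖ hϖ b)
    set i := (decomp ϖ hϖ a).1
    set j := (decomp ϖ hϖ b).1
    set u := (decomp ϖ hϖ a).2
    set w := (decomp ϖ hϖ b).2
    simp only [Units.val_mul, Units.val_zpow_eq_zpow_val, coe_unitFrac, unitToFrac, Units.coe_map,
      MonoidHom.coe_coe] at ha hb
    rw [ha, hb] at h
    -- clear denominators by `ϖ ^ m`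
    have key : ∀ p q r : ℕ, ∀ m : ℤ, i + m = p → j + m = q → m = r →
        ϖ ^ p * (u : A) + ϖ ^ q * (w : A) = ϖ ^ r := by
      intro p q r m hp hq hr
      apply IsFractionRing.injective A L
      have := congrArg (fun z => algebraMap A L ϖ ^ m * z) h
      rw [mul_add, ← mul_assoc, ← mul_assoc, ← zpow_add₀ hne, ← zpow_add₀ hne, add_comm m i,
        add_comm m j, hp, hq, hr, mul_one, zpow_natCast, zpow_natCast, zpow_natCast] at this
      simpa using this
    have hpow : ∀ p : ℕ, 0 < p → IsLocalRing.residue A (ϖ ^ p) = 0 := fun p hp => by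
      rw [map_pow, hres, zero_pow hp.ne']
    have hu : IsLocalRing.residue A (u : A) ≠ 0 := (unitResidue A u).ne_zero
    have hw : IsLocalRing.residue A (w : A) ≠ 0 := (unitResidue A w).ne_zero
    rcases lt_trichotomy i j with hij | hij | hij
    · rcases lt_trichotomy i 0 with hi | hi | hi
      · obtain ⟨r, hr⟩ := Int.eq_ofNat_of_zero_le (show 0 ≤ -i by omega)
        obtain ⟨q, hq⟩ := Int.eq_ofNat_of_zero_le (show 0 ≤ j - i by omega)
        have e := congrArg (IsLocalRing.residue A) (key 0 q r (-i) (by omega) (by omega) (by omega))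
        simp [hpow q (by omega), hpow r (by omega)] at e
      · obtain ⟨q, hq⟩ := Int.eq_ofNat_of_zero_le (show 0 ≤ j by omega)
        have e := congrArg (IsLocalRing.residue A) (key 0 q 0 0 (by omega) (by omega) (by simp))
        right; left
        refine ⟨hi, Units.ext ?_, by omega⟩
        simpa [unitResidue, hpow q (by omega)] using e
      · obtain ⟨p, hp⟩ := Int.eq_ofNat_of_zero_le hi.le
        obtain ⟨q, hq⟩ := Int.eq_ofNat_of_zero_le (show 0 ≤ j by omega)
        have e := congrArg (IsLocalRing.residue A) (key p q 0 0 (by omega) (by omega) (by simp))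
        simp [hpow p (by omega), hpow q (by omega)] at e
    · rcases lt_trichotomy i 0 with hi | hi | hi
      · right; right; right
        refine ⟨hij, hi, Units.ext ?_⟩
        obtain ⟨r, hr⟩ := Int.eq_ofNat_of_zero_le (show 0 ≤ -i by omega)
        have e := congrArg (IsLocalRing.residue A) (key 0 0 r (-i) (by omega) (by omega) (by omega))
        simp only [map_add, pow_zero, one_mul, hpow r (by omega)] at e
        simpa [unitResidue] using eq_neg_of_add_eq_zero_right e
      · have e := congrArg (IsLocalRing.residue A) (key 0 0 0 0 (by omega) (by omega) (by simp))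
        right; right; left
        exact ⟨hi, by omega, by simpa [unitResidue] using e⟩
      · obtain ⟨p, hp⟩ := Int.eq_ofNat_of_zero_le hi.le
        have e := congrArg (IsLocalRing.residue A) (key p p 0 0 (by omega) (by omega) (by simp))
        simp [hpow p (by omega)] at e
    · rcases lt_trichotomy j 0 with hj | hj | hj
      · obtain ⟨r, hr⟩ := Int.eq_ofNat_of_zero_le (show 0 ≤ -j by omega)
        obtain ⟨p, hp⟩ := Int.eq_ofNat_of_zero_le (show 0 ≤ i - j by omega)
        have e := congrArg (IsLocalRing.residue A) (key p 0 r (-j) (by omega) (by omega) (by omega))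
        simp [hpow p (by omega), hpow r (by omega)] at e
      · obtain ⟨p, hp⟩ := Int.eq_ofNat_of_zero_le (show 0 ≤ i by omega)
        have e := congrArg (IsLocalRing.residue A) (key p 0 0 0 (by omega) (by omega) (by simp))
        left
        refine ⟨hj, Units.ext ?_, by omega⟩
        simpa [unitResidue, hpow p (by omega)] using e
      · obtain ⟨p, hp⟩ := Int.eq_ofNat_of_zero_le (show 0 ≤ i by omega)
        obtain ⟨q, hq⟩ := Int.eq_ofNat_of_zero_le hj.le
        have e := congrArg (IsLocalRing.residue A) (key p q 0 0 (by omega) (by omega) (by simp))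
        simp [hpow p (by omega), hpow q (by omega)] at e

variable (ϖ : A) (hϖ : Irreducible ϖ)

theorem dvr_v_eq (i : ℤ) (u : Aˣ) :
    (dvrData (L := L) ϖ hϖ).v (unitFrac A L ϖ hϖ.ne_zero ^ i * unitToFrac A L u) = i :=
  congrArg Prod.fst (decomp_eq (L := L) ϖ hϖ i u)

theorem dvr_r_eq (i : ℤ) (u : Aˣ) :
    (dvrData (L := L) ϖ hϖ).r (unitFrac A L ϖ hϖ.ne_zero ^ i * unitToFrac A L u) = unitResidue A u :=
  congrArg (fun p => unitResidue A p.2) (decomp_eq (L := L) ϖ hϖ i u)

@[simp] theorem dvr_v_unit (u : Aˣ) : (dvrData (L := L) ϖ hϖ).v (unitToFrac A L u) = 0 := by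
  simpa using dvr_v_eq (L := L) ϖ hϖ 0 u

@[simp] theorem dvr_r_unit (u : Aˣ) :
    (dvrData (L := L) ϖ hϖ).r (unitToFrac A L u) = unitResidue A u := by
  simpa using dvr_r_eq (L := L) ϖ hϖ 0 u

@[simp] theorem dvr_v_uniformizer :
    (dvrData (L := L) ϖ hϖ).v (unitFrac A L ϖ hϖ.ne_zero) = 1 := by
  simpa using dvr_v_eq (L := L) ϖ hϖ 1 1

@[simp] theorem dvr_r_uniformizer :
    (dvrData (L := L) ϖ hϖ).r (unitFrac A L ϖ hϖ.ne_zero) = 1 := by
  simpa using dvr_r_eq (L := L) ϖ hϖ 1 1

theorem exists_uniformizer_eq (ϖ' : A) (hϖ' : Irreducible ϖ') :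
    ∃ w : Aˣ, unitFrac A L ϖ' hϖ'.ne_zero = unitFrac A L ϖ hϖ.ne_zero * unitToFrac A L w := by
  obtain ⟨w, hw⟩ := IsDiscreteValuationRing.associated_of_irreducible (R := A) hϖ hϖ'
  refine ⟨w, Units.ext ?_⟩
  simp [← hw, unitToFrac]

theorem isTameSymbol_tame (n : ℕ) : IsTameSymbol A L n ((dvrData (L := L) ϖ hϖ).tame n) := by
  intro ϖ' hϖ' u
  obtain ⟨w, hw⟩ := exists_uniformizer_eq (L := L) ϖ hϖ ϖ' hϖ'
  rw [ValData.tame_symbol, ValData.tameFun_cons _ _ _ (fun i => dvr_v_unit ϖ hϖ (u i)), hw,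
    ValData.v_mul, dvr_v_uniformizer, dvr_v_unit, add_zero, one_smul]
  simp

theorem isSpecMap_spec (n : ℕ) : IsSpecMap A L ϖ hϖ n ((dvrData (L := L) ϖ hϖ).spec n) := by
  intro e u
  simp [dvr_r_eq]

theorem specMap_eq {n : ℕ} {s : K L n →+ K (IsLocalRing.ResidueField A) n}
    (hs : IsSpecMap A L ϖ hϖ n s) : s = (dvrData ϖ hϖ).spec n := by
  refine hom_ext fun x => ?_
  have hx : x = fun i => unitFrac A L ϖ hϖ.ne_zero ^ (decomp ϖ hϖ (x i)).1 *
      unitToFrac A L (decomp ϖ hϖ (x i)).2 := funext fun i => decomp_spec ϖ hϖ (x i)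
  rw [hx, hs, isSpecMap_spec ϖ hϖ n]

variable (A L)

/-- The subgroup generated by symbols all of whose entries are units of `A`. -/
def unitSubgroup (n : ℕ) : AddSubgroup (K L n) :=
  AddSubgroup.closure {z : K L n | ∃ u : Fin n → Aˣ, z = symbol fun i => unitToFrac A L (u i)}

variable {A L}

theorem symbol_mem_unitSubgroup {n : ℕ} (u : Fin n → Aˣ) :
    (symbol fun i => unitToFrac A L (u i) : K L n) ∈ unitSubgroup A L n :=
  AddSubgroup.subset_closure ⟨u, rfl⟩

theorem cons_unit_mem {n : ℕ} (w : Aˣ) {z : K L n} (hz : z ∈ unitSubgroup A L n) :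
    cons (unitToFrac A L w) z ∈ unitSubgroup A L (n + 1) := by
  refine (AddSubgroup.closure_le (K := (unitSubgroup A L (n + 1)).comap (cons (unitToFrac A L w)))).2
    ?_ hz
  rintro _ ⟨u, rfl⟩
  rw [SetLike.mem_coe, AddSubgroup.mem_comap, cons_symbol]
  refine AddSubgroup.subset_closure ⟨Fin.cons w u, ?_⟩
  congr 1
  funext i
  refine Fin.cases ?_ (fun k => ?_) i <;> simp

theorem neg_one_eq : (-1 : Lˣ) = unitToFrac A L (-1) := by
  ext; simp [unitToFrac]

/-- Every element is `{π}·a + b` with `a`, `b` sums of symbols of units. -/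
theorem exists_unit_decomp : ∀ (n : ℕ) (z : K L (n + 1)), ∃ a ∈ unitSubgroup A L n,
    ∃ b ∈ unitSubgroup A L (n + 1), z = cons (unitFrac A L ϖ hϖ.ne_zero) a + b := by
  intro n
  set P := unitFrac A L ϖ hϖ.ne_zero
  let S : AddSubgroup (K L (n + 1)) :=
    (unitSubgroup A L n).map (cons P) ⊔ unitSubgroup A L (n + 1)
  suffices h : ∀ x, symbol x ∈ S by
    intro z
    have hz : z ∈ S := by
      induction z using induction_on with
      | zero => exact zero_mem _
      | sym x => exact h x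
      | add a b ha hb => exact add_mem ha hb
      | neg a ha => exact neg_mem ha
    obtain ⟨_, ⟨a, ha, rfl⟩, b, hb, rfl⟩ := AddSubgroup.mem_sup.1 hz
    exact ⟨a, ha, b, hb, rfl⟩
  induction n with
  | zero =>
      intro x
      rw [symbol_succ, decomp_spec ϖ hϖ (x 0), cons_mul, cons_zpow]
      have h0 : symbol (Fin.tail x) ∈ unitSubgroup A L 0 :=
        AddSubgroup.subset_closure ⟨Fin.elim0, congrArg symbol (Subsingleton.elim _ _)⟩
      exact add_mem (zsmul_mem (AddSubgroup.mem_sup_left (AddSubgroup.mem_map_of_mem _ h0)) _)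
        (AddSubgroup.mem_sup_right (cons_unit_mem _ h0))
  | succ n ih =>
      intro x
      obtain ⟨_, ⟨a, ha, rfl⟩, b, hb, hab⟩ := AddSubgroup.mem_sup.1 (ih (Fin.tail x))
      rw [symbol_succ, ← hab, decomp_spec ϖ hϖ (x 0), cons_mul, cons_zpow, map_add, map_add,
        cons_cons_self, cons_cons_comm (unitToFrac A L _) P, ← map_neg (cons P)]
      refine add_mem (zsmul_mem (add_mem ?_ ?_) _) (add_mem ?_ ?_)
      · rw [neg_one_eq (A := A)]
        exact AddSubgroup.mem_sup_left (AddSubgroup.mem_map_of_mem _ (cons_unit_mem _ ha))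
      · exact AddSubgroup.mem_sup_left (AddSubgroup.mem_map_of_mem _ hb)
      · exact AddSubgroup.mem_sup_left (AddSubgroup.mem_map_of_mem _ (neg_mem (cons_unit_mem _ ha)))
      · exact AddSubgroup.mem_sup_right (cons_unit_mem _ hb)

theorem tame_cons_uniformizer {n : ℕ} {d : K L (n + 1) →+ K (IsLocalRing.ResidueField A) n}
    (hd : IsTameSymbol A L n d) {a : K L n} (ha : a ∈ unitSubgroup A L n) :
    d (cons (unitFrac A L ϖ hϖ.ne_zero) a) = (dvrData ϖ hϖ).spec n a := by
  refine AddMonoidHom.eqOn_closure (f := d.comp (cons (unitFrac A L ϖ hϖ.ne_zero)))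
    (g := (dvrData ϖ hϖ).spec n) ?_ ha
  rintro _ ⟨u, rfl⟩
  simp [hd ϖ hϖ u]

theorem tame_unit_eq_zero {n : ℕ} {d : K L (n + 1) →+ K (IsLocalRing.ResidueField A) n}
    (hd : IsTameSymbol A L n d) {b : K L (n + 1)} (hb : b ∈ unitSubgroup A L (n + 1)) :
    d b = 0 := by
  obtain ⟨ϖ₀, hϖ₀⟩ := IsDiscreteValuationRing.exists_irreducible A
  refine AddMonoidHom.eqOn_closure (f := d) (g := 0) ?_ hb
  rintro _ ⟨u, rfl⟩
  have hirr : Irreducible (ϖ₀ * (u 0 : A)) := (irreducible_mul_units (u 0)).2 hϖ₀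
  have e : unitToFrac A L (u 0) = unitFrac A L _ hirr.ne_zero / unitFrac A L ϖ₀ hϖ₀.ne_zero := by
    rw [eq_div_iff_mul_eq']
    ext
    simp [unitToFrac, mul_comm]
  rw [symbol_succ, e, cons_div, map_sub, cons_symbol, cons_symbol]
  simp [Fin.tail_def, hd _ hirr (fun i => u i.succ), hd _ hϖ₀ (fun i => u i.succ)]

theorem tameSymbol_eq {n : ℕ} {d : K L (n + 1) →+ K (IsLocalRing.ResidueField A) n}
    (hd : IsTameSymbol A L n d) : d = (dvrData ϖ hϖ).tame n := by
  ext z
  obtain ⟨a, ha, b, hb, rfl⟩ := exists_unit_decomp (L := L) ϖ hϖ n z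
  rw [map_add, map_add, tame_cons_uniformizer ϖ hϖ hd ha, tame_unit_eq_zero hd hb,
    tame_cons_uniformizer ϖ hϖ (isTameSymbol_tame ϖ hϖ n) ha,
    tame_unit_eq_zero (isTameSymbol_tame ϖ hϖ n) hb]

end DVR

end Groth.Agent.MilK.Tame
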